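import Cfsg.Prelude.Def_Blocks
import Cfsg.Prelude.Def_Local
import Cfsg.Agent.Lib.KGV.Basic
import Cfsg.Agent.Lib.OddChar.Fixed
import Cfsg.Agent.Lib.PSolvable.PSolv
import Cfsg.Agent.Lib.Elem69.Basic
import Cfsg.Agent.Lib.Blocks.HeightZero
import Cfsg.Agent.Lib.Chars.Induced
import Mathlib

/-!
# p-solvable groups all of whose irreducible degrees are prime to p
-/

set_option autoImplicit false

namespace Cfsg.Agent.Lib.HeightPSolv

open Cfsg
open Cfsg.Agent.Lib

universe u

variable {G : Type u} [Group G] [Finite G] {p : ℕ}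

/-- Every irreducible degree is prime to `p`. -/
def AllDegreesPrime (p : ℕ) (G : Type u) [Group G] : Prop :=
  ∀ χ : IrrCharacter G, ¬ p ∣ charDegree (χ : G → ℂ)

omit [Finite G] in
theorem charDegree_of_eq {χ : G → ℂ} {d : ℕ} (h : χ 1 = d) : charDegree χ = d := by
  simp [charDegree, h]

/-- An irreducible character of a normal subgroup lies below one whose degree is divisible by its
degree and by the index of a subgroup fixing it. -/
theorem exists_over (N : Subgroup G) [N.Normal] (θ : IrrCharacter N) :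
    ∃ χ : IrrCharacter G, charDegree (θ : N → ℂ) ∣ charDegree (χ : G → ℂ) ∧
      ∃ T : Subgroup G, N ≤ T ∧ T.index ∣ charDegree (χ : G → ℂ) ∧
        ∀ g ∈ T, Clifford.conjFun g (θ : N → ℂ) = (θ : N → ℂ) := by
  classical
  let := Fintype.ofFinite G
  obtain ⟨m, σ, hσ, hσθ⟩ := θ.2
  have := Chars.nontrivial_of_isIrreducible σ
  have hind := Chars.isCharacter_indFun N (Chars.irr_isCharacter θ)
  obtain ⟨χ, hχ⟩ : ∃ χ : IrrCharacter G, classInner (indFun N (θ : N → ℂ)) (χ : G → ℂ) ≠ 0 := by
    by_contra! h0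
    have h := congrFun (Chars.isCharacter_eq_sum_classInner hind) 1
    simp only [h0, zero_smul, Finset.sum_const_zero, Pi.zero_apply, Chars.indFun_one_eq,
      mul_eq_zero, Nat.cast_eq_zero] at h
    exact h.elim Subgroup.index_ne_zero_of_finite (Chars.irr_apply_one_ne_zero θ)
  obtain ⟨n, π, hπ, hπχ⟩ := χ.2
  rw [Chars.classInner_indFun_left N _ _ (Chars.irr_isClassFunction χ), ← hσθ] at hχ
  have : Nontrivial (Representation.IntertwiningMap σ (CharExt.resRep N π)) := by
    apply Module.nontrivial_of_finrank_pos (R := ℂ)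
    refine Nat.pos_of_ne_zero fun h => hχ ?_
    have h1 : classInner (CharExt.resRep N π).character σ.character = 0 := by
      rw [Chars.classInner_char_eq_finrank, h, Nat.cast_zero]
    rw [← Chars.conj_classInner, map_eq_zero]
    convert h1 using 2
    rw [← hπχ]
    rfl
  have hfin := CharExt.finrank_eq_index_mul N σ π
  have hdχ : charDegree (χ : G → ℂ) = Module.finrank ℂ (Fin n → ℂ) :=
    charDegree_of_eq (by rw [← hπχ, π.char_one])
  have hdθ : charDegree (θ : N → ℂ) = Module.finrank ℂ (Fin m → ℂ) :=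
    charDegree_of_eq (by rw [← hσθ, σ.char_one])
  refine ⟨χ, ?_, CharExt.inertia N σ, CharExt.le_inertia N σ, ?_, fun g hg => ?_⟩
  · rw [hdθ, hdχ, hfin]
    exact dvd_mul_of_dvd_right (dvd_mul_right _ _) _
  · rw [hdχ, hfin]
    exact dvd_mul_right _ _
  · obtain ⟨γ, hγ⟩ := hg
    let e : σ.Equiv (σ.comp (MulAut.conjNormal g).toMonoidHom : Representation ℂ N (Fin m → ℂ)) :=
      Representation.Equiv.mk
        (LinearMap.GeneralLinearGroup.toLinearEquiv (CharExt.projT N σ γ.1)) (fun x => by
          have h := γ.1.2 x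
          rw [show γ.1.1.1 = g from hγ] at h
          exact h)
    funext x
    rw [← hσθ]
    exact (congrFun (Representation.char_iso e) x).symm

theorem AllDegreesPrime.normal (h : AllDegreesPrime p G) (N : Subgroup G) [N.Normal] :
    AllDegreesPrime p N := fun θ hθ => by
  obtain ⟨χ, hd, -⟩ := exists_over N θ
  exact h χ (hθ.trans hd)

theorem AllDegreesPrime.quotient (h : AllDegreesPrime p G) (N : Subgroup G) [N.Normal] :
    AllDegreesPrime p (G ⧸ N) := fun ψ hψ => h (Chars.inflate N ψ) (by
  have : charDegree (Chars.inflate N ψ : G → ℂ) = charDegree (ψ : G ⧸ N → ℂ) := by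
    simp [charDegree, Chars.inflate]
  rwa [this])

/-- A finite p-group with all degrees prime to p is abelian. -/
theorem isMulCommutative_of_isPGroup [hp : Fact p.Prime] (hG : IsPGroup p G)
    (h : AllDegreesPrime p G) : IsMulCommutative G := by
  classical
  let := Fintype.ofFinite G
  have h1 : ∀ χ : IrrCharacter G, (χ : G → ℂ) 1 = 1 := fun χ => by
    obtain ⟨d, -, hd1, hd2⟩ := KGV.exists_degree_dvd_index (⊥ : Subgroup G) (by simp) χ
    rw [Subgroup.index_bot] at hd2
    obtain ⟨k, hk⟩ := IsPGroup.iff_card.1 hG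
    obtain ⟨j, -, hj⟩ := (Nat.dvd_prime_pow hp.out).1 (hk ▸ hd2)
    have hnd := h χ
    rw [charDegree_of_eq hd1, hj] at hnd
    rcases Nat.eq_zero_or_pos j with rfl | hj0
    · simpa [hj] using hd1
    · exact absurd (dvd_pow_self p hj0.ne') hnd
  refine ⟨⟨fun a b => ?_⟩⟩
  have hc : IsConj (a * b * a⁻¹ * b⁻¹) 1 := Chars.isConj_iff_irr.2 fun χ => by
    obtain ⟨f, hf⟩ := Chars.exists_hom_of_degree_one (Chars.irr_isCharacter χ) (h1 χ)
    simp only [hf, map_mul, map_inv, map_one]
    norm_cast
    rw [mul_right_comm (f a) (f b), mul_inv_cancel, one_mul, mul_inv_cancel]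
  have h2 := isConj_one_left.1 hc
  exact mul_inv_eq_iff_eq_mul.1 (mul_inv_eq_one.1 h2)

/-- In a product of a normal p'-subgroup and a p-subgroup with all degrees prime to p, the
p-subgroup centralises the normal one. -/
theorem commute_of_sup_eq_top [hp : Fact p.Prime] (h : AllDegreesPrime p G) (N : Subgroup G)
    [N.Normal] (hN : (Nat.card N).Coprime p) (P : Subgroup G) (hP : IsPGroup p P)
    (htop : N ⊔ P = ⊤) {g : G} (hg : g ∈ P) (n : G) (hn : n ∈ N) : g * n = n * g := by
  classical
  have hidx : ∃ k, N.index = p ^ k := by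
    obtain ⟨k, hk⟩ := IsPGroup.iff_card.1 hP
    have hd : N.index ∣ p ^ k := by
      rw [← hk, ← Subgroup.relIndex_top_right, ← htop, sup_comm, Subgroup.relIndex_sup_right]
      exact Subgroup.relIndex_dvd_card _ _
    obtain ⟨j, -, hj⟩ := (Nat.dvd_prime_pow hp.out).1 hd
    exact ⟨j, hj⟩
  have hfix : ∀ θ : IrrCharacter N, Clifford.conjFun g (θ : N → ℂ) = (θ : N → ℂ) := by
    intro θ
    obtain ⟨χ, -, T, hNT, hT, hTfix⟩ := exists_over N θ
    obtain ⟨k, hk⟩ := hidx
    obtain ⟨j, -, hj⟩ := (Nat.dvd_prime_pow hp.out).1 (hk ▸ Subgroup.index_dvd_of_le hNT)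
    have hT1 : T = ⊤ := by
      rw [← Subgroup.index_eq_one]
      rcases Nat.eq_zero_or_pos j with rfl | hj0
      · simpa using hj
      · exact absurd ((hj ▸ dvd_pow_self p hj0.ne').trans hT) (h χ)
    exact hTfix g (hT1 ▸ Subgroup.mem_top g)
  have hall : ∀ C : ConjClasses N, ConjClasses.map
      (MulEquiv.toMonoidHom (MulAut.conjNormal g : MulAut N)) C = C := by
    have h1 := OddChar.card_fixedIrr (N := N) g
    rw [Nat.card_congr (Equiv.subtypeUnivEquiv hfix), Chars.card_irrCharacter] at h1
    intro C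
    have hbij : Function.Bijective (fun D : OddChar.FixedClasses N g => D.1) :=
      (Nat.bijective_iff_injective_and_card _).2 ⟨Subtype.val_injective, h1.symm⟩
    obtain ⟨D, rfl⟩ := hbij.2 C
    exact D.2
  have hord : Nat.Coprime (orderOf g) (Nat.card N) := by
    obtain ⟨k, hk⟩ := IsPGroup.iff_orderOf.1 hP ⟨g, hg⟩
    rw [Subgroup.orderOf_mk] at hk
    rw [hk]
    exact hN.symm.pow_left k
  have htop' : (Subgroup.centralizer ({g} : Set G)).subgroupOf N = ⊤ := by
    refine Elem69.eq_top_of_forall_exists_conj _ fun x => ?_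
    obtain ⟨y, hy, hgy⟩ := OddChar.exists_fixed_rep hord ⟨ConjClasses.mk x, hall _⟩
    obtain ⟨c, hc⟩ := isConj_iff.1 (ConjClasses.mk_eq_mk_iff_isConj.1 hy).symm
    refine ⟨c⁻¹, ?_⟩
    rw [inv_inv, hc, Subgroup.mem_subgroupOf, Subgroup.mem_centralizer_singleton_iff]
    exact hgy.symm
  have hmem : (⟨n, hn⟩ : N) ∈ (Subgroup.centralizer ({g} : Set G)).subgroupOf N :=
    htop' ▸ Subgroup.mem_top _
  exact (Subgroup.mem_centralizer_singleton_iff.1 hmem).symm

/-- In a p-solvable group with all degrees prime to p the Sylow p-subgroups are normal. -/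
theorem sylow_normal [hp : Fact p.Prime] : ∀ {G : Type u} [Group G] [Finite G],
    IsPSolvable p G → AllDegreesPrime p G → ∀ P : Sylow p G, (P : Subgroup G).Normal := by
  intro G _ _
  induction hcard : Nat.card G using Nat.strong_induction_on generalizing G with
  | _ k ih =>
  intro hsolv h P
  rcases subsingleton_or_nontrivial G with hG | hG
  · exact ⟨fun n hn g => by rwa [Subsingleton.elim (g * n * g⁻¹) n]⟩
  by_cases hK : pPrimeCore p G = ⊥
  · have hne : pCore p G ≠ ⊥ :=
      (PSolvable.pCore_ne_bot_or_pPrimeCore_ne_bot hsolv).resolve_right (not_not.2 hK)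
    have hlt : Nat.card (G ⧸ pCore p G) < k := by
      rw [← hcard, ← Subgroup.index, ← Subgroup.card_mul_index (pCore p G)]
      exact lt_mul_left (Nat.pos_of_ne_zero Subgroup.index_ne_zero_of_finite)
        (Subgroup.one_lt_card_iff_ne_bot _ |>.2 hne)
    have hn := ih _ hlt rfl (PSolvable.isPSolvable_quotient hsolv _) (h.quotient _)
      (P.mapSurjective (QuotientGroup.mk'_surjective (pCore p G)))
    have hc := hn.comap (QuotientGroup.mk' (pCore p G))
    rwa [Sylow.coe_mapSurjective, Subgroup.comap_map_eq, QuotientGroup.ker_mk',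
      sup_eq_left.2 (PSolvable.pCore_le_sylow P)] at hc
  · set N := pPrimeCore p G with hNdef
    have hlt : Nat.card (G ⧸ N) < k := by
      rw [← hcard, ← Subgroup.index, ← Subgroup.card_mul_index N]
      exact lt_mul_left (Nat.pos_of_ne_zero Subgroup.index_ne_zero_of_finite)
        (Subgroup.one_lt_card_iff_ne_bot _ |>.2 hK)
    have hn := ih _ hlt rfl (PSolvable.isPSolvable_quotient hsolv _) (h.quotient _)
      (P.mapSurjective (QuotientGroup.mk'_surjective N))
    have hK' : ((P : Subgroup G) ⊔ N).Normal := by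
      have hc := hn.comap (QuotientGroup.mk' N)
      rwa [Sylow.coe_mapSurjective, Subgroup.comap_map_eq, QuotientGroup.ker_mk'] at hc
    by_cases htop : (P : Subgroup G) ⊔ N = ⊤
    · rw [← Subgroup.normalizer_eq_top_iff, eq_top_iff, ← htop]
      refine sup_le Subgroup.le_normalizer fun n hn => ?_
      refine Subgroup.centralizer_le_normalizer _ (Subgroup.mem_centralizer_iff.2 fun g hg => ?_)
      have htop' : N ⊔ (P : Subgroup G) = ⊤ := by rw [sup_comm]; exact htop
      exact commute_of_sup_eq_top h N (PSolvable.pPrimeCore_coprime (G := G)) (P : Subgroup G)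
        P.isPGroup' htop' hg n hn
    · have hlt' : Nat.card ↥((P : Subgroup G) ⊔ N) < k := by
        rw [← hcard]
        exact lt_of_le_of_ne (Subgroup.card_le_card_group _)
          (fun e => htop (Subgroup.eq_top_of_card_eq _ e))
      haveI := ih _ hlt' rfl (PSolvable.isPSolvable_subgroup hsolv _) (h.normal _)
        (P.subtype le_sup_left)
      have hchar := Sylow.characteristic_of_normal (P.subtype le_sup_left) this
      have := hchar
      have hnor : (((P.subtype le_sup_left : Sylow p ↥((P : Subgroup G) ⊔ N)) :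
          Subgroup ↥((P : Subgroup G) ⊔ N)).map ((P : Subgroup G) ⊔ N).subtype).Normal :=
        inferInstance
      rwa [Sylow.coe_subtype, Subgroup.subgroupOf_map_subtype, inf_eq_left.2 le_sup_left] at hnor

/-- All degrees are prime to p exactly when the Sylow p-subgroup is normal and abelian, in a
p-solvable group. -/
theorem allDegreesPrime_iff [hp : Fact p.Prime] {G : Type u} [Group G] [Finite G]
    (hsolv : IsPSolvable p G) (P : Sylow p G) :
    ((P : Subgroup G).Normal ∧ IsMulCommutative P) ↔ AllDegreesPrime p G := by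
  constructor
  · rintro ⟨hn, hc⟩ χ
    haveI := hn
    obtain ⟨d, -, hd, hdvd⟩ := KGV.exists_degree_dvd_index (P : Subgroup G)
      (fun a ha b hb => congrArg Subtype.val (hc.1.comm ⟨a, ha⟩ ⟨b, hb⟩)) χ
    rw [charDegree_of_eq hd]
    exact fun h => P.not_dvd_index (h.trans hdvd)
  · intro h
    haveI := sylow_normal hsolv h P
    exact ⟨inferInstance, isMulCommutative_of_isPGroup P.isPGroup' (h.normal _)⟩

end Cfsg.Agent.Lib.HeightPSolv
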